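import Groth.Agent.RootDat34.Conj
import Mathlib.FieldTheory.IsAlgClosed.Basic
import Mathlib.RingTheory.RootsOfUnity.AlgebraicallyClosed
import Mathlib.AlgebraicGeometry.Noetherian

/-!
A section normalising the torus acts on the lattice through a finite group: unipotent actions are trivial.
-/

set_option autoImplicit false

universe u

open CategoryTheory MonoidalCategory CartesianMonoidalCategory MonObj GrpObj AlgebraicGeometry
open CategoryTheory.Limits

namespace Groth.Agent.RootDat34

open Groth.Agent.RedPts82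

variable {K : Type u} [Field K] {G : Over (Spec (CommRingCat.of K))} [GrpObj G]

/-- The functions on the point. -/
abbrev Kfn (K : Type u) [Field K] : Type u := Γ((𝟙_ (Over (Spec (CommRingCat.of K)))).left, ⊤)

/-- The functions on the point form the field. -/
noncomputable def kfnEquiv (K : Type u) [Field K] : K ≃+* Kfn K :=
  (Scheme.ΓSpecIso (CommRingCat.of K)).commRingCatIsoToRingEquiv.symm

theorem isField_kfn (K : Type u) [Field K] : IsField (Kfn K) :=
  (kfnEquiv K).symm.toMulEquiv.isField (Field.toIsField K)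

/-- The evaluation of functions at a rational point. -/
noncomputable def evPt (g : 𝟙_ (Over (Spec (CommRingCat.of K))) ⟶ G) : Γ(G.left, ⊤) →+* Kfn K :=
  g.left.appTop.hom

theorem comp_evPt {H : Over (Spec (CommRingCat.of K))} (g : 𝟙_ (Over (Spec (CommRingCat.of K))) ⟶ G)
    (f : G ⟶ H) (b : Γ(H.left, ⊤)) : evPt (g ≫ f) b = evPt g (f.left.appTop b) := by
  simp only [evPt, Over.comp_left, Scheme.Hom.comp_appTop]
  rfl

theorem exists_const (g : 𝟙_ (Over (Spec (CommRingCat.of K))) ⟶ G) (c : Kfn K) :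
    ∃ c₀ : Γ(Spec (CommRingCat.of K), ⊤), ∀ s : 𝟙_ (Over (Spec (CommRingCat.of K))) ⟶ G,
      evPt s (G.hom.appTop c₀) = c := by
  refine ⟨c, fun s => ?_⟩
  show (G.hom.appTop ≫ s.left.appTop) c = c
  rw [← Scheme.Hom.comp_appTop, Over.w s]
  rfl

/-- Two rational points of an affine scheme with nested kernels agree. -/
theorem eq_of_ker_le [IsAffine G.left] {s s' : 𝟙_ (Over (Spec (CommRingCat.of K))) ⟶ G}
    (h : RingHom.ker (evPt s) ≤ RingHom.ker (evPt s')) : s = s' := by
  refine Over.OverMorphism.ext (ext_of_isAffine (CommRingCat.hom_ext (RingHom.ext fun b => ?_)))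
  show evPt s b = evPt s' b
  obtain ⟨c₀, hc₀⟩ := exists_const s (evPt s b)
  have h1 : b - G.hom.appTop c₀ ∈ RingHom.ker (evPt s) := by
    rw [RingHom.mem_ker, map_sub, hc₀, sub_self]
  have h2 := RingHom.mem_ker.1 (h h1)
  rw [map_sub, hc₀, sub_eq_zero] at h2
  exact h2.symm

theorem finite_torsion_points (M : Type) [AddCommGroup M] [Module.Finite ℤ M] [Module.Free ℤ M] {N : ℕ} (hN : 0 < N) :
    {v : 𝟙_ (Over (Spec (CommRingCat.of K))) ⟶ Red.DS (Spec (CommRingCat.of K)) M |
      ∀ m, dsFn v m ^ N = 1}.Finite := by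
  classical
  haveI : IsDomain (Kfn K) := (isField_kfn K).isDomain
  let b := Module.finBasis ℤ M
  have hroots : {x : Kfn K | x ^ N = 1}.Finite := by
    refine ((Polynomial.nthRoots N (1 : Kfn K)).toFinset.finite_toSet).subset fun x hx => ?_
    simpa [Polynomial.mem_nthRoots hN] using hx
  refine (Set.Finite.pi' fun _ => hroots).subset ?_ |>.of_finite_image
    (f := fun v j => dsFn v (b j)) ?_
  · rintro _ ⟨v, hv, rfl⟩ j
    exact hv (b j)
  · intro v _ v' _ e
    refine dsFn_injective fun m => ?_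
    let F : (𝟙_ (Over (Spec (CommRingCat.of K))) ⟶ Red.DS (Spec (CommRingCat.of K)) M) → M →+ Additive (Kfn K)ˣ :=
      fun v => AddMonoidHom.mk' (fun m => Additive.ofMul (dsFn_isUnit v m).unit) fun m m' => by
        show Additive.ofMul _ = Additive.ofMul _
        congr 1
        exact Units.ext (dsFn_add v m m')
    have : (F v).toIntLinearMap = (F v').toIntLinearMap := b.ext fun j => congrArg Additive.ofMul
      (Units.ext (show ((dsFn_isUnit v (b j)).unit : Kfn K) = ((dsFn_isUnit v' (b j)).unit : Kfn K) by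
        rw [IsUnit.unit_spec, IsUnit.unit_spec]; exact congrFun e j))
    have h := congrArg (fun w => ((Additive.toMul (w m) : (Kfn K)ˣ) : Kfn K)) this
    simpa [F] using h

variable [IsAlgClosed K]

/-- The translation by a vector in the kernel of a functional. -/
def shear {M : Type} [AddCommGroup M] (a : M) (h : M →+ ℤ) : M →+ M :=
  AddMonoidHom.id M + ((zmultiplesHom M a).comp h)

theorem shear_apply {M : Type} [AddCommGroup M] (a : M) (h : M →+ ℤ) (m : M) : shear a h m = m + h m • a := rfl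

/-- A section acting on the lattice by a transvection acts trivially. -/
theorem eq_zero_of_conj (D : Red.SplitRed G) (n : 𝟙_ (Over (Spec (CommRingCat.of K))) ⟶ G) (a : D.M) (ha0 : a ≠ 0)
    (h : D.M →+ ℤ) (ha : h a = 0) (hn : Conj D D n (shear a h)) : h = 0 := by
  classical
  haveI := D.reductive.1
  haveI := D.reductive.2.1
  haveI : IsAffine G.left := isAffine_of_isAffineHom G.hom
  haveI : IsLocallyNoetherian G.left := LocallyOfFiniteType.isLocallyNoetherian G.hom
  haveI : IsNoetherianRing Γ(G.left, ⊤) := IsLocallyNoetherian.component_noetherian ⟨⊤, isAffineOpen_top G.left⟩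
  haveI : IsDomain (Kfn K) := (isField_kfn K).isDomain
  have hpow : ∀ i : ℕ, Conj D D (n ^ i) (shear a ((i : ℤ) • h)) := by
    intro i
    induction i with
    | zero =>
      rw [pow_zero, show shear a (((0 : ℕ) : ℤ) • h) = AddMonoidHom.id D.M from AddMonoidHom.ext fun m => by
        simp [shear_apply]]
      exact Conj.id D
    | succ i ih =>
      have e := ih.comp hn
      rw [← pow_succ'] at e
      rwa [show (shear a ((i : ℤ) • h)).comp (shear a h) = shear a (((i + 1 : ℕ) : ℤ) • h) from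
        AddMonoidHom.ext fun m => by
          simp only [AddMonoidHom.comp_apply, shear_apply, AddMonoidHom.smul_apply, smul_eq_mul, map_add, map_zsmul, ha]
          push_cast
          module] at e
  by_contra hne
  obtain ⟨m, hm⟩ : ∃ m, h m ≠ 0 := by
    by_contra hall
    push Not at hall
    exact hne (AddMonoidHom.ext hall)
  obtain ⟨l, hl⟩ : ∃ l : D.M →+ ℤ, l a ≠ 0 := by
    let b := Module.Free.chooseBasis ℤ D.M
    have : b.repr a ≠ 0 := fun e => ha0 (b.repr.injective (by rw [e, map_zero]))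
    obtain ⟨j, hj⟩ := Finsupp.ne_iff.mp this
    exact ⟨((Finsupp.lapply j).comp b.repr.toLinearMap).toAddMonoidHom, by simpa using hj⟩
  -- a minimal prime containing two of the powers
  let J : Ideal Γ(G.left, ⊤) := ⨅ i : ℕ, RingHom.ker (evPt (n ^ i))
  have hJ : ∀ i, ∃ q ∈ J.minimalPrimes, q ≤ RingHom.ker (evPt (n ^ i)) := fun i => by
    haveI : (RingHom.ker (evPt (n ^ i))).IsPrime := RingHom.ker_isPrime _
    exact Ideal.exists_minimalPrimes_le (iInf_le _ i)
  choose q hqJ hq using hJ
  haveI := (Ideal.finite_minimalPrimes_of_isNoetherianRing _ J).to_subtype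
  obtain ⟨i, j, hij, hqij⟩ := Finite.exists_ne_map_eq_of_infinite (fun i : ℕ => (⟨q i, hqJ i⟩ : J.minimalPrimes))
  have hqij' : q i = q j := congrArg Subtype.val hqij
  have hd : ((j : ℤ) - i) * h m * l a ≠ 0 := by
    refine mul_ne_zero (mul_ne_zero (sub_ne_zero.mpr ?_) hm) hl
    exact_mod_cast hij.symm
  -- a root of unity
  obtain ⟨N, hNle, hNp⟩ := Nat.exists_infinite_primes ((((j : ℤ) - i) * h m * l a).natAbs + ringChar K + 1)
  haveI : NeZero (N : K) := ⟨fun e => by
    have h1 := (ringChar.spec K N).mp e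
    rcases (Nat.dvd_prime hNp).mp h1 with h2 | h2
    · exact CharP.ringChar_ne_one h2
    · omega⟩
  haveI : HasEnoughRootsOfUnity K N := inferInstance
  obtain ⟨ζ₀, hζ₀⟩ := HasEnoughRootsOfUnity.exists_primitiveRoot K N
  have hζ : IsPrimitiveRoot (kfnEquiv K ζ₀) N := hζ₀.map_of_injective (kfnEquiv K).injective
  let ζ : (Kfn K)ˣ := (hζ.isUnit hNp.ne_zero).unit
  obtain ⟨t, ht⟩ := dsFn_surjective (S := Spec (CommRingCat.of K)) (M := D.M) (X := 𝟙_ (Over (Spec (CommRingCat.of K))))
    ((Units.coeHom (Kfn K)).comp ((zpowersHom (Kfn K)ˣ ζ).comp (AddMonoidHom.toMultiplicative l)))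
  have ht' : ∀ x, dsFn t x = ((ζ ^ l x : (Kfn K)ˣ) : Kfn K) := fun x => ht x
  -- the morphism
  let f : G ⟶ G := 𝟙 G * (toUnit G ≫ tpt D t) * (𝟙 G)⁻¹
  have hf : ∀ g : 𝟙_ (Over (Spec (CommRingCat.of K))) ⟶ G, g ≫ f = g * tpt D t * g⁻¹ := fun g => by
    simp only [f, MonObj.comp_mul, GrpObj.comp_inv, Category.comp_id]
    rw [← Category.assoc, toUnit_unique (g ≫ toUnit G) (𝟙 _), Category.id_comp]
  have hnp : ∀ g : 𝟙_ (Over (Spec (CommRingCat.of K))) ⟶ G, np g (𝟙_ (Over (Spec (CommRingCat.of K)))) = g := fun g => by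
    rw [np, toUnit_unique (toUnit (𝟙_ (Over (Spec (CommRingCat.of K))))) (𝟙 _), Category.id_comp]
  have hfi : ∀ i : ℕ, (n ^ i) ≫ f = tpt D (t ≫ Red.DSmap (Spec (CommRingCat.of K)) (shear a ((i : ℤ) • h))) := fun i => by
    rw [hf, ← hpow i, hnp]
  have hNt : ∀ x, dsFn t x ^ N = 1 := fun x => by
    rw [ht', ← Units.val_pow_eq_pow_val, ← zpow_natCast, ← zpow_mul, mul_comm, zpow_mul, zpow_natCast]
    have : ζ ^ N = 1 := Units.ext (by rw [Units.val_pow_eq_pow_val, IsUnit.unit_spec, hζ.pow_eq_one, Units.val_one])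
    rw [this, one_zpow, Units.val_one]
  let Fs := (finite_torsion_points (K := K) D.M hNp.pos).toFinset
  let Is : (𝟙_ (Over (Spec (CommRingCat.of K))) ⟶ Red.DS (Spec (CommRingCat.of K)) D.M) → Ideal Γ(G.left, ⊤) := fun v =>
    (RingHom.ker (evPt (tpt D v))).map f.left.appTop.hom
  have hIs : ∀ (g : 𝟙_ (Over (Spec (CommRingCat.of K))) ⟶ G) (v : 𝟙_ (Over (Spec (CommRingCat.of K))) ⟶ Red.DS (Spec (CommRingCat.of K)) D.M),
      Is v ≤ RingHom.ker (evPt g) ↔ tpt D v = g ≫ f := by
    intro g v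
    rw [Ideal.map_le_iff_le_comap]
    constructor
    · intro hle
      refine eq_of_ker_le fun b hb => ?_
      rw [RingHom.mem_ker, comp_evPt]
      exact RingHom.mem_ker.1 (hle hb)
    · intro e b hb
      rw [Ideal.mem_comap, RingHom.mem_ker]
      show evPt g (f.left.appTop b) = 0
      rw [← comp_evPt, ← e]
      exact RingHom.mem_ker.1 hb
  have hprodJ : ∏ v ∈ Fs, Is v ≤ J := le_iInf fun i => by
    have hmem : t ≫ Red.DSmap (Spec (CommRingCat.of K)) (shear a ((i : ℤ) • h)) ∈ Fs := by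
      rw [Set.Finite.mem_toFinset]
      intro x
      rw [dsFn_DSmap]
      exact hNt _
    exact (Ideal.prod_le_inf.trans (Finset.inf_le hmem)).trans ((hIs _ _).mpr (hfi i).symm)
  haveI : (q i).IsPrime := (hqJ i).1.1
  obtain ⟨v, -, hv⟩ := ((inferInstance : (q i).IsPrime).prod_le).mp (hprodJ.trans (hqJ i).1.2)
  have hi' := (hIs _ _).mp (hv.trans (hq i))
  have hj' := (hIs _ _).mp ((hv.trans hqij'.le).trans (hq j))
  rw [hfi] at hi' hj'
  have e := congrArg (fun w => dsFn w m) ((tpt_injective (hi'.symm.trans hj')))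
  simp only [dsFn_DSmap, shear_apply, AddMonoidHom.smul_apply, smul_eq_mul, ht'] at e
  have e' : ζ ^ (((j : ℤ) - i) * h m * l a) = 1 := by
    have := Units.ext e
    rw [map_add, map_add, map_zsmul, map_zsmul, smul_eq_mul, smul_eq_mul] at this
    rw [show ((j : ℤ) - i) * h m * l a = (l m + j * h m * l a) - (l m + i * h m * l a) by ring, zpow_sub, ← this,
      mul_inv_cancel]
  have hζu : IsPrimitiveRoot ζ N := IsPrimitiveRoot.coe_units_iff.mp (by rw [IsUnit.unit_spec]; exact hζ)
  have hdvd := (hζu.zpow_eq_one_iff_dvd _).mp e'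
  have := Nat.le_of_dvd (Int.natAbs_pos.mpr hd) (Int.natCast_dvd.mp hdvd)
  omega

end Groth.Agent.RootDat34
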