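import Groth.Agent.RootDat34.RootChar
import Groth.Agent.RootDat34.Unip

/-!
Two splittings with conjugate tori have isomorphic root data.
-/

set_option autoImplicit false

universe u

open CategoryTheory MonoidalCategory CartesianMonoidalCategory MonObj GrpObj AlgebraicGeometry
open CategoryTheory.Limits

namespace Groth.Agent.RootDat34

open Groth.Agent.RedPts82

variable {S : Scheme.{u}} {G : Over S} [GrpObj G]

theorem exists_root_of_conj [IsAffine S] [Nontrivial Γ(S, ⊤)] {D D' : Red.SplitRed G}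
    {g : 𝟙_ (Over S) ⟶ G} {φ : D'.M →+ D.M} (hg : Conj D D' g φ) (hφ : Function.Injective φ) (a' : D'.idx) :
    ∃ a, D.P.root a = φ (D'.P.root a') := by
  haveI := (D'.rootHom a').1
  have hcl := (D'.rootHom a').2.1
  haveI : Mono (D'.u a') := Over.mono_of_mono_left _
  let u : Red.Ga S ⟶ G := (np g (Red.Ga S))⁻¹ * D'.u a' * np g (Red.Ga S)
  have hu : ∀ {X : Over S} (x : X ⟶ Red.Ga S), x ≫ u = (np g X)⁻¹ * (x ≫ D'.u a') * np g X := fun x => by
    simp only [u, MonObj.comp_mul, GrpObj.comp_inv, comp_np]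
  haveI : IsMonHom u := isMonHom_of_points _ fun X x y => by
    rw [hu, hu, hu, MonObj.mul_comp]
    group
  haveI : Mono u := ⟨fun {X} x y e => by
    rw [hu, hu] at e
    exact (cancel_mono (D'.u a')).mp (mul_left_cancel (mul_right_cancel e))⟩
  refine exists_root_eq D (φ (D'.P.root a')) (fun e => D'.P.ne_zero a' (hφ (by rw [e, map_zero]))) u
    fun X t x => ?_
  have h1 := splitRed_conj D' a' (t ≫ Red.DSmap S φ) x
  rw [dsFn_DSmap, show (t ≫ Red.DSmap S φ) ≫ D'.split.inv.hom.hom ≫ D'.i = tpt D' (t ≫ Red.DSmap S φ) from rfl,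
    ← hg X t] at h1
  rw [hu, hu, ← h1]
  group

theorem exists_conj_refl (D : Red.SplitRed G) (a : D.idx) :
    ∃ n : 𝟙_ (Over S) ⟶ G, Conj D D n (D.P.reflection a).toLinearMap.toAddMonoidHom := by
  obtain ⟨n, hn⟩ := D.refl a
  refine ⟨n, fun X t => ?_⟩
  have e := hn X (t ≫ D.split.inv.hom.hom)
  have hs : D.split.inv.hom.hom ≫ D.split.hom.hom.hom = 𝟙 _ :=
    congrArg (fun f => f.hom.hom) D.split.inv_hom_id
  simp only [Category.assoc] at e
  rw [← Category.assoc D.split.inv.hom.hom D.split.hom.hom.hom, hs] at e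
  simp only [tpt, Category.assoc]
  refine Eq.trans e ?_
  exact congrArg (t ≫ ·) (Category.id_comp _)

theorem coroot_apply (D : Red.SplitRed G) (a : D.idx) (m : D.M) : D.P.coroot' a m = D.P.coroot a m := by
  show D.P.toLinearMap m (D.P.coroot a) = _
  rw [D.pairing_eq]
  rfl

theorem coroot_comp_eq {K : Type u} [Field K] [IsAlgClosed K] {G : Over (Spec (CommRingCat.of K))} [GrpObj G]
    {D D' : Red.SplitRed G} {g : 𝟙_ (Over (Spec (CommRingCat.of K))) ⟶ G} {φ : D'.M →+ D.M} {ψ : D.M →+ D'.M}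
    (hg : Conj D D' g φ) (hψ : ψ.comp φ = AddMonoidHom.id D'.M) {a : D.idx} {a' : D'.idx}
    (ha : φ (D'.P.root a') = D.P.root a) (m : D'.M) : D.P.coroot a (φ m) = D'.P.coroot a' m := by
  obtain ⟨n, hn⟩ := exists_conj_refl D a
  obtain ⟨n', hn'⟩ := exists_conj_refl D' a'
  have hA := (hg.comp hn').comp (hg.inv hψ)
  have hB := hA.comp hn
  let f : D.M →+ ℤ := (D.P.coroot a : D.M →ₗ[ℤ] ℤ).toAddMonoidHom
  let f' : D.M →+ ℤ := (D'.P.coroot a' : D'.M →ₗ[ℤ] ℤ).toAddMonoidHom.comp ψ
  have hψa : ψ (D.P.root a) = D'.P.root a' := by rw [← ha]; exact DFunLike.congr_fun hψ _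
  have hfa : f (D.P.root a) = 2 := by
    show D.P.coroot a (D.P.root a) = 2
    rw [← coroot_apply]
    exact D.P.root_coroot_two a
  have hf'a : f' (D.P.root a) = 2 := by
    show D'.P.coroot a' (ψ (D.P.root a)) = 2
    rw [hψa, ← coroot_apply]
    exact D'.P.root_coroot_two a'
  have hφψ : ∀ x, φ (ψ x) = x := by
    haveI := Module.Finite.iff_addGroup_fg.mpr (Module.Finite.iff_addGroup_fg.mp (inferInstance : Module.Finite ℤ D.M))
    intro x
    obtain ⟨y, rfl⟩ := surjective_of_conj hg x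
    rw [show ψ (φ y) = y from DFunLike.congr_fun hψ y]
  have hz := eq_zero_of_conj D _ (D.P.root a) (D.P.ne_zero a) (f - f')
    (by rw [AddMonoidHom.sub_apply, hfa, hf'a, sub_self]) (by
      suffices e : shear (D.P.root a) (f - f') = ((φ.comp (D'.P.reflection a').toLinearMap.toAddMonoidHom).comp ψ).comp (D.P.reflection a).toLinearMap.toAddMonoidHom by
        rw [e]; exact hB
      refine AddMonoidHom.ext fun x => ?_
      simp only [shear_apply, AddMonoidHom.comp_apply, LinearMap.toAddMonoidHom_coe, LinearEquiv.coe_coe,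
        RootPairing.reflection_apply, coroot_apply, map_sub, map_zsmul, AddMonoidHom.sub_apply]
      simp only [ha, hψa, hφψ, map_neg]
      show x + (D.P.coroot a x - D'.P.coroot a' (ψ x)) • D.P.root a = _
      have h2 : D'.P.coroot a' (D'.P.root a') = 2 := by rw [← coroot_apply]; exact D'.P.root_coroot_two a'
      simp only [h2, smul_eq_mul]
      module)
  have h := DFunLike.congr_fun hz (φ m)
  rw [AddMonoidHom.sub_apply, AddMonoidHom.zero_apply, sub_eq_zero] at h
  refine h.trans ?_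
  show D'.P.coroot a' (ψ (φ m)) = _
  rw [show ψ (φ m) = m from DFunLike.congr_fun hψ m]

theorem nonempty_equiv {K : Type u} [Field K] [IsAlgClosed K] {G : Over (Spec (CommRingCat.of K))} [GrpObj G]
    {D D' : Red.SplitRed G} {g g' : 𝟙_ (Over (Spec (CommRingCat.of K))) ⟶ G}
    (h : ∀ (X : Over (Spec (CommRingCat.of K))) (t : X ⟶ D.T), ∃ t' : X ⟶ D'.T,
      np g X * (t ≫ D.i) * (np g X)⁻¹ = t' ≫ D'.i)
    (h' : ∀ (X : Over (Spec (CommRingCat.of K))) (t : X ⟶ D'.T), ∃ t' : X ⟶ D.T,
      np g' X * (t ≫ D'.i) * (np g' X)⁻¹ = t' ≫ D.i) : Nonempty (RootPairing.Equiv D.P D'.P) := by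
  haveI : Subsingleton (Spec (CommRingCat.of K)) := inferInstanceAs (Subsingleton (PrimeSpectrum K))
  haveI : Nonempty (Spec (CommRingCat.of K)) := inferInstanceAs (Nonempty (PrimeSpectrum K))
  haveI : Nontrivial Γ(Spec (CommRingCat.of K), ⊤) :=
    (Scheme.ΓSpecIso (CommRingCat.of K)).commRingCatIsoToRingEquiv.toEquiv.nontrivial
  obtain ⟨φ, hφ⟩ := exists_conj D D' g h
  obtain ⟨φ', hφ'⟩ := exists_conj D' D g' h'
  have hs := surjective_of_conj hφ
  have hs' := surjective_of_conj hφ'
  have hinj : Function.Injective φ := by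
    intro x y e
    obtain ⟨x, rfl⟩ := hs' x
    obtain ⟨y, rfl⟩ := hs' y
    have hc : Function.Injective (φ.comp φ').toIntLinearMap :=
      OrzechProperty.injective_of_surjective_endomorphism _ (hs.comp hs')
    rw [hc (a₁ := x) (a₂ := y) e]
  let e := AddEquiv.ofBijective φ ⟨hinj, hs⟩
  let ψ : D.M →+ D'.M := e.symm.toAddMonoidHom
  have hψ : ψ.comp φ = AddMonoidHom.id D'.M := AddMonoidHom.ext e.symm_apply_apply
  choose σ hσ using exists_root_of_conj hφ hinj
  choose τ hτ using exists_root_of_conj (hφ.inv hψ) e.symm.injective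
  have h1 : ∀ a, σ (τ a) = a := fun a => D.P.root.injective (by
    rw [hσ, hτ]; exact e.apply_symm_apply _)
  have h2 : ∀ a, τ (σ a) = a := fun a => D'.P.root.injective (by
    rw [hτ, hσ]; exact e.symm_apply_apply _)
  let w : D.M ≃ₗ[ℤ] D'.M := e.symm.toIntLinearEquiv
  refine ⟨{ weightMap := w.toLinearMap
            coweightMap := w.toLinearMap.dualMap
            indexEquiv := ⟨τ, σ, h1, h2⟩
            weight_coweight_transpose := ?_
            root_weightMap := ?_
            coroot_coweightMap := ?_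
            bijective_weightMap := w.bijective
            bijective_coweightMap := w.dualMap.bijective }⟩
  · refine LinearMap.ext fun f => LinearMap.ext fun x => ?_
    show D'.P.toLinearMap (w x) f = D.P.toLinearMap x (w.toLinearMap.dualMap f)
    rw [D.pairing_eq, D'.pairing_eq]
    rfl
  · funext a
    exact (hτ a).symm
  · funext a'
    refine LinearMap.ext fun x => ?_
    show D'.P.coroot a' (e.symm x) = D.P.coroot (σ a') x
    obtain ⟨m, rfl⟩ := hs x
    rw [coroot_comp_eq hφ hψ (hσ a').symm m]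
    exact congrArg _ (e.symm_apply_apply m)

end Groth.Agent.RootDat34
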