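import Groth.Agent.RedPts82.BruhatUnip
import Groth.Agent.RedPts82.Weights
import Groth.Agent.RedPts82.CentTorus
import Groth.Agent.RedPts82.BruhatRankOne

/-!
A homomorphism from the additive group into a split group on which the torus acts through a non-trivial
character is a root homomorphism: the character is a root.
-/

set_option autoImplicit false

universe u

open CategoryTheory MonoidalCategory CartesianMonoidalCategory MonObj GrpObj AlgebraicGeometry
open CategoryTheory.Limits

namespace Groth.Agent.RootDat34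

open Groth.Agent.RedPts82

variable {S : Scheme.{u}} {G : Over S} [GrpObj G] (D : Red.SplitRed G)

theorem comp_list_prod' {X Y P : Over S} [GrpObj P] (k : Y ⟶ X) {n : ℕ} (f : Fin n → (X ⟶ P)) :
    k ≫ (List.ofFn f).prod = (List.ofFn fun i => k ≫ f i).prod := by
  induction n with
  | zero => simp [MonObj.comp_one]
  | succ n ih => simp [List.ofFn_succ, MonObj.comp_mul, ih]

/-- A chamber with a given positive value. -/
theorem exists_chamber_pos (β : D.M) (hβ : β ≠ 0) : ∃ l : D.M →+ ℤ, Chamber D l ∧ 0 < l β := by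
  classical
  obtain ⟨mu, hmu⟩ : ∃ mu : D.M →+ ℤ, 0 < mu β := by
    let b := Module.Free.chooseBasis ℤ D.M
    have : b.repr β ≠ 0 := fun h => hβ (b.repr.injective (by rw [h, map_zero]))
    obtain ⟨j, hj⟩ := Finsupp.ne_iff.mp this
    let c : D.M →+ ℤ := ((Finsupp.lapply j).comp b.repr.toLinearMap).toAddMonoidHom
    rcases lt_or_gt_of_ne hj with h | h
    · exact ⟨-c, by simpa [c] using h⟩
    · exact ⟨c, by simpa [c] using h⟩
  obtain ⟨l0, h1, h2, -⟩ := exists_regular_functional (P := D.P) mu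
  let bd : ℤ := |l0 β| + ∑ p : D.idx × D.idx, |l0 (D.P.root p.1 - D.P.root p.2)| + ∑ c, |l0 (D.P.root c)| + 1
  have hbd : ∀ x y : ℤ, x ≠ 0 → |y| < bd → bd * x + y ≠ 0 := by
    intro x y hx hy h
    have hb : 0 ≤ bd := (abs_nonneg y).trans hy.le
    rcases abs_lt.mp hy with ⟨hy1, hy2⟩
    rcases lt_or_gt_of_ne hx with hx | hx
    · have : bd * x ≤ bd * (-1) := mul_le_mul_of_nonneg_left (by omega) hb
      omega
    · have : bd * 1 ≤ bd * x := mul_le_mul_of_nonneg_left (by omega) hb
      omega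
  have hs1 : ∀ c, |l0 (D.P.root c)| ≤ ∑ c, |l0 (D.P.root c)| := fun c =>
    Finset.single_le_sum (f := fun c => |l0 (D.P.root c)|) (fun c _ => abs_nonneg _) (Finset.mem_univ c)
  have hs2 : ∀ p : D.idx × D.idx, |l0 (D.P.root p.1 - D.P.root p.2)| ≤
      ∑ p : D.idx × D.idx, |l0 (D.P.root p.1 - D.P.root p.2)| := fun p =>
    Finset.single_le_sum (f := fun p : D.idx × D.idx => |l0 (D.P.root p.1 - D.P.root p.2)|)
      (fun p _ => abs_nonneg _) (Finset.mem_univ p)
  have hn1 : 0 ≤ ∑ c, |l0 (D.P.root c)| := Finset.sum_nonneg fun c _ => abs_nonneg _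
  have hn2 : 0 ≤ ∑ p : D.idx × D.idx, |l0 (D.P.root p.1 - D.P.root p.2)| := Finset.sum_nonneg fun c _ => abs_nonneg _
  refine ⟨bd • mu + l0, ⟨fun a c h => ?_, fun c h => ?_⟩, ?_⟩
  · by_contra hne
    have hne' : l0 (D.P.root a - D.P.root c) ≠ 0 := by
      rw [map_sub]
      exact sub_ne_zero.mpr fun h => hne (h2 h)
    have h' : bd * mu (D.P.root a - D.P.root c) + l0 (D.P.root a - D.P.root c) = 0 := by
      simp only [AddMonoidHom.add_apply, AddMonoidHom.smul_apply, smul_eq_mul] at h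
      rw [map_sub, map_sub, mul_sub]
      linarith
    by_cases hm : mu (D.P.root a - D.P.root c) = 0
    · rw [hm] at h'
      exact hne' (by simpa using h')
    · exact hbd _ _ hm (by have h2 : |l0 (D.P.root a - D.P.root c)| ≤ _ := hs2 (a, c); have := abs_nonneg (l0 β); simp only [bd]; omega) h'
  · simp only [AddMonoidHom.add_apply, AddMonoidHom.smul_apply, smul_eq_mul] at h
    by_cases hm : mu (D.P.root c) = 0
    · rw [hm] at h
      exact h1 c (by simpa using h)
    · exact hbd _ _ hm (by have := hs1 c; have := abs_nonneg (l0 β); simp only [bd]; omega) h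
  · simp only [AddMonoidHom.add_apply, AddMonoidHom.smul_apply, smul_eq_mul]
    have : bd * 1 ≤ bd * mu β := mul_le_mul_of_nonneg_left (by omega) (by have := abs_nonneg (l0 β); simp only [bd]; omega)
    have := neg_abs_le (l0 β)
    simp only [bd] at *
    omega

/-- A functional positive at two vectors and separating them. -/
theorem exists_pair_functional {x y : D.M} (hxy : x ≠ y) {l : D.M →+ ℤ} (hx : 0 < l x) (hy : 0 < l y) :
    ∃ l' : D.M →+ ℤ, 0 < l' x ∧ 0 < l' y ∧ l' x ≠ l' y := by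
  by_cases h : l x = l y
  · let b := Module.Free.chooseBasis ℤ D.M
    have : b.repr (x - y) ≠ 0 := fun h => hxy (sub_eq_zero.1 (b.repr.injective (by rw [h, map_zero])))
    obtain ⟨j, hj⟩ := Finsupp.ne_iff.mp this
    let ξ : D.M →+ ℤ := ((Finsupp.lapply j).comp b.repr.toLinearMap).toAddMonoidHom
    have hξ : ξ x ≠ ξ y := fun e => hj (by
      show (b.repr (x - y)) j = 0
      rw [map_sub]
      exact sub_eq_zero.2 e)
    let N : ℤ := |ξ x| + |ξ y| + 1
    refine ⟨N • l + ξ, ?_, ?_, ?_⟩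
    all_goals simp only [AddMonoidHom.add_apply, AddMonoidHom.smul_apply, smul_eq_mul]
    · have : N * 1 ≤ N * l x := mul_le_mul_of_nonneg_left (by omega) (by simp only [N]; have := abs_nonneg (ξ x); have := abs_nonneg (ξ y); omega)
      have := neg_abs_le (ξ x); have := abs_nonneg (ξ y)
      simp only [N] at *; omega
    · have : N * 1 ≤ N * l y := mul_le_mul_of_nonneg_left (by omega) (by simp only [N]; have := abs_nonneg (ξ x); have := abs_nonneg (ξ y); omega)
      have := neg_abs_le (ξ y); have := abs_nonneg (ξ x)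
      simp only [N] at *; omega
    · rw [h]
      exact fun e => hξ (add_left_cancel e)
  · exact ⟨l, hx, hy, h⟩

theorem gmFn_pow_eq {X : Over S} (z : X ⟶ Red.Gm S) {n : ℤ} (hn : 0 ≤ n) :
    dsFn z n = Red.gmFn z ^ n.toNat := by
  rw [← dsFn_gm_zpow, Int.toNat_of_nonneg hn]

/-- The character of a monomorphic root homomorphism is a root. -/
theorem exists_root_eq [IsAffine S] [Nontrivial Γ(S, ⊤)] (β : D.M) (hβ : β ≠ 0) (u : Red.Ga S ⟶ G)
    [IsMonHom u] [Mono u]
    (h : ∀ (X : Over S) (t : X ⟶ Red.DS S D.M) (x : X ⟶ Red.Ga S),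
      tpt D t * (x ≫ u) * (tpt D t)⁻¹ = gaPt (dsFn t β * Red.gaFn x) ≫ u) :
    ∃ a, D.P.root a = β := by
  classical
  by_contra hno
  push Not at hno
  haveI : IsAffine (𝟙_ (Over S)).left := inferInstanceAs (IsAffine S)
  haveI : Nontrivial (Gam (𝟙_ (Over S))) := inferInstanceAs (Nontrivial Γ(S, ⊤))
  obtain ⟨l, hl, hlβ⟩ := exists_chamber_pos D β hβ
  let ep := posEnum D l
  -- the universal point is contracted
  have hup : u ∈ Up D l (Red.Ga S) := by
    refine ⟨gaPt (Red.gaFn (snd (Red.Ga S) (Red.Ga S)) ^ (l β).toNat *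
      Red.gaFn (fst (Red.Ga S) (Red.Ga S))) ≫ u, fun Z z t => ?_, fun Z z => ?_⟩
    · have e : t ≫ cochar D l = tpt D (t ≫ Red.DSmap S l) := by
        simp only [tpt, cochar, Category.assoc]
      rw [e, h, dsFn_DSmap, gmFn_pow_eq _ hlβ.le, ← Category.assoc, comp_gaPt]
      congr 2
      rw [map_mul, map_pow, ← gaFn_comp, ← gaFn_comp, lift_snd, lift_fst, gaFn_gaPt]
    · rw [← Category.assoc, comp_gaPt, map_mul, map_pow, ← gaFn_comp, lift_snd, gaFn_gaPt,
        zero_pow (by omega), zero_mul, gaPt_zero, MonObj.one_comp, MonObj.comp_one]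
  obtain ⟨r, hr⟩ := hl.exists_prod posEnum_injective posEnum_range hup
  let ψ := fun k => gaPt (X := Red.Ga S) (r k)
  have hexp : ∀ {X : Over S} (x : X ⟶ Red.Ga S),
      x ≫ u = (List.ofFn fun k => rp D (ep k) (Red.gaFn (x ≫ ψ k))).prod := by
    intro X x
    conv_lhs => rw [hr]
    rw [comp_list_prod']
    refine congrArg (fun f => (List.ofFn f).prod) (funext fun k => ?_)
    simp only [rp, gaPt_gaFn, Category.assoc, ψ, ep]
  -- uniqueness of coordinates
  let en := posEnum D (-l)
  have hen : ∀ k, l (D.P.root (en k)) < 0 := fun k => by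
    have := posEnum_pos (D := D) (l := -l) k
    simp only [AddMonoidHom.neg_apply] at this
    show l (D.P.root (posEnum D (-l) k)) < 0
    omega
  have C := cellData_of_regular D l hl.inj en ep posEnum_injective posEnum_injective hen (fun k => posEnum_pos k)
  haveI := C.pos.isClosedImmersion C.hG
  haveI : Mono (RedSub.prodMap (Red.Ga S) _ fun k => D.u (ep k)) := Over.mono_of_mono_left _
  have huniq : ∀ {X : Over S} (r r' : Fin (Fintype.card {c // 0 < l (D.P.root c)}) → Γ(X.left, ⊤)),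
      (List.ofFn fun k => rp D (ep k) (r k)).prod = (List.ofFn fun k => rp D (ep k) (r' k)).prod → r = r' := by
    intro X r r' e
    rw [← powTuple_prodMap, ← powTuple_prodMap] at e
    funext k
    have := congrArg (fun w => Red.gaFn (w ≫ powProj (Red.Ga S) _ k)) ((cancel_mono _).mp e)
    simpa only [powTuple_proj, gaFn_gaPt] using this
  have hu1 : ∀ (X : Over S), gaPt (X := X) 0 ≫ u = 1 := fun X => by rw [gaPt_zero, MonObj.one_comp]
  have hzero : ∀ (X : Over S) k, Red.gaFn (gaPt (X := X) 0 ≫ ψ k) = 0 := by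
    intro X k
    have e := hexp (gaPt (X := X) 0)
    rw [hu1, show (1 : X ⟶ G) = (List.ofFn fun k => rp D (ep k) (0 : Γ(X.left, ⊤))).prod from by
      simp only [rp_zero]; exact (List.prod_eq_one fun g hg => by
        obtain ⟨i, rfl⟩ := (List.mem_ofFn' _ _).mp hg; rfl).symm] at e
    exact (congrFun (huniq _ _ e) k).symm
  -- no component has a linear term
  let Y : Over S := 𝟙_ (Over S)
  obtain ⟨N, kN, _, ε, hε, hεinj⟩ := exists_nilpotent_point Y 1
  have hε0 : ε ≠ 0 := fun e => one_ne_zero (hεinj 1 (by rw [e, pow_one, mul_zero]))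
  obtain ⟨δ, hδ0, hδ2⟩ : ∃ δ : Γ(N.left, ⊤), δ ≠ 0 ∧ δ ^ 2 = 0 := by
    let n := Nat.find hε
    have hn : ε ^ n = 0 := Nat.find_spec hε
    have hn1 : 2 ≤ n := by
      by_contra hlt
      push Not at hlt
      interval_cases hh : n
      · rw [pow_zero] at hn
        exact hε0 (by rw [← _root_.mul_one ε, hn, mul_zero])
      · rw [pow_one] at hn; exact hε0 hn
    exact ⟨ε ^ (n - 1), fun e => Nat.find_min hε (show n - 1 < n by omega) e,
      by rw [← pow_mul]; exact pow_eq_zero_of_le (by omega) hn⟩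
  have hδψ : ∀ k, Red.gaFn (gaPt δ ≫ ψ k) = 0 := by
    intro k
    obtain ⟨p, hp⟩ := exists_poly Y (ψ k)
    obtain ⟨l', hl'a, hl'β, hne⟩ := exists_pair_functional D (hno (ep k)) (posEnum_pos k) hlβ
    have hw : ∀ (X : Over S) (z : X ⟶ Red.Gm S) (x x' : X ⟶ Red.Ga S),
        Red.gaFn x' = Red.gmFn z ^ (l' β).toNat * Red.gaFn x →
          Red.gaFn (x' ≫ ψ k) =
            ((gmU z ^ (l' (D.P.root (ep k))) : Γ(X.left, ⊤)ˣ) : Γ(X.left, ⊤)) * Red.gaFn (x ≫ ψ k) := by
      intro X z x x' hx'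
      have e := h X (z ≫ Red.DSmap S l') x
      rw [dsFn_DSmap, gmFn_pow_eq _ hl'β.le, ← hx', gaPt_gaFn, hexp x, conj_list_prod, hexp x'] at e
      simp only [tpt_conj_rp, dsFn_DSmap] at e
      have := congrFun (huniq _ _ e) k
      rw [← this, gmFn_pow_eq _ hl'a.le, ← val_gmU, ← Units.val_pow_eq_pow_val, ← zpow_natCast,
        Int.toNat_of_nonneg hl'a.le]
    have hc : ∀ n : ℕ, n < 2 → p.coeff n = 0 := fun n hn =>
      coeff_eq_zero_of_weight (ψ k) (l' β).toNat (by omega) _ hw Y p hp n (by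
        rw [Int.toNat_of_nonneg hl'β.le]
        interval_cases n <;> simp <;> omega)
    obtain ⟨q, hq⟩ := Polynomial.X_pow_dvd_iff.mpr hc
    rw [hp N kN (gaPt δ), hq, map_mul, map_pow, evalGa_X, gaFn_gaPt, hδ2, zero_mul]
  have e : gaPt δ ≫ u = gaPt 0 ≫ u := by
    rw [hu1, hexp]
    simp only [hδψ, rp_zero]
    exact List.prod_eq_one fun g hg => by obtain ⟨i, rfl⟩ := (List.mem_ofFn' _ _).mp hg; rfl
  have := congrArg Red.gaFn ((cancel_mono u).mp e)
  rw [gaFn_gaPt, gaFn_gaPt] at this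
  exact hδ0 this

end Groth.Agent.RootDat34
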