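import Groth.Agent.RedPts82.BruhatActs
import Groth.Agent.RedPts82.MultLoci
import Groth.Agent.RedPts82.DSHomLoc

/-!
Sections carrying one split torus of a group to another.
-/

set_option autoImplicit false

universe u

open CategoryTheory MonoidalCategory CartesianMonoidalCategory MonObj GrpObj AlgebraicGeometry
open CategoryTheory.Limits

namespace Groth.Agent.RootDat34

open Groth.Agent.RedPts82

variable {S : Scheme.{u}} {G : Over S} [GrpObj G]

/-- The section `g` carries the torus of `D` into that of `D'` through the map `φ` of lattices. -/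
def Conj (D D' : Red.SplitRed G) (g : 𝟙_ (Over S) ⟶ G) (φ : D'.M →+ D.M) : Prop :=
  ∀ (X : Over S) (t : X ⟶ Red.DS S D.M),
    np g X * tpt D t * (np g X)⁻¹ = tpt D' (t ≫ Red.DSmap S φ)

theorem pt_DSmap_id {X : Over S} {M : Type} [AddCommGroup M] (t : X ⟶ Red.DS S M) :
    t ≫ Red.DSmap S (AddMonoidHom.id M) = t :=
  dsFn_injective fun m => by rw [dsFn_DSmap]; rfl

theorem Conj.id (D : Red.SplitRed G) : Conj D D 1 (AddMonoidHom.id D.M) := fun X t => by
  rw [pt_DSmap_id, np, MonObj.comp_one, inv_one, _root_.mul_one, _root_.one_mul]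

theorem Conj.comp {D D' D'' : Red.SplitRed G} {g h : 𝟙_ (Over S) ⟶ G} {φ : D'.M →+ D.M} {ψ : D''.M →+ D'.M}
    (hg : Conj D D' g φ) (hh : Conj D' D'' h ψ) : Conj D D'' (h * g) (φ.comp ψ) := fun X t => by
  rw [← comp_DSmap_DSmap, ← Category.assoc, ← hh X, ← hg X, np_mul]
  group

theorem Conj.inv {D D' : Red.SplitRed G} {g : 𝟙_ (Over S) ⟶ G} {φ : D'.M →+ D.M} {ψ : D.M →+ D'.M}
    (hg : Conj D D' g φ) (hψ : ψ.comp φ = AddMonoidHom.id D'.M) : Conj D' D g⁻¹ ψ := fun X t => by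
  have e := hg X (t ≫ Red.DSmap S ψ)
  rw [Category.assoc, comp_DSmap_DSmap, hψ, pt_DSmap_id] at e
  rw [np_inv, ← e]
  group

theorem mono_DSmap_of_conj {D D' : Red.SplitRed G} {g : 𝟙_ (Over S) ⟶ G} {φ : D'.M →+ D.M}
    (hg : Conj D D' g φ) : Mono (Red.DSmap S φ) := ⟨fun {X} t t' e => by
  refine tpt_injective (D := D) ?_
  have h1 := hg X t
  rw [e, ← hg X t'] at h1
  exact mul_left_cancel (mul_right_cancel h1)⟩

theorem surjective_of_conj [Nonempty S] {D D' : Red.SplitRed G} {g : 𝟙_ (Over S) ⟶ G} {φ : D'.M →+ D.M}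
    (hg : Conj D D' g φ) : Function.Surjective φ := by
  haveI := mono_DSmap_of_conj hg
  obtain ⟨w⟩ := ‹Nonempty S›
  exact surjective_of_mono_fibre (W := S) φ w
    (inferInstanceAs (Mono ((Over.forget _).map
      ((Over.pullback (S.fromSpecResidueField w)).map (Red.DSmap S φ)))))

/-- A section carrying one torus into another does so through a map of lattices. -/
theorem exists_conj [IsAffine S] [Subsingleton S] [Nonempty S] (D D' : Red.SplitRed G) (g : 𝟙_ (Over S) ⟶ G)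
    (h : ∀ (X : Over S) (t : X ⟶ D.T), ∃ t' : X ⟶ D'.T, np g X * (t ≫ D.i) * (np g X)⁻¹ = t' ≫ D'.i) :
    ∃ φ : D'.M →+ D.M, Conj D D' g φ := by
  obtain ⟨t₀, ht₀⟩ := h (Red.DS S D.M) D.split.inv.hom.hom
  let f : Red.DS S D.M ⟶ Red.DS S D'.M := t₀ ≫ D'.split.hom.hom.hom
  have hf : ∀ (X : Over S) (t : X ⟶ Red.DS S D.M), np g X * tpt D t * (np g X)⁻¹ = tpt D' (t ≫ f) := by
    intro X t
    have e := congrArg (t ≫ ·) ht₀
    simp only [MonObj.comp_mul, GrpObj.comp_inv, comp_np] at e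
    rw [show tpt D t = t ≫ D.split.inv.hom.hom ≫ D.i from rfl, e, ← Category.assoc t t₀, i_eq_tpt]
    rfl
  haveI : IsMonHom f := isMonHom_of_points _ fun X t t' => by
    refine tpt_injective (D := D') ?_
    rw [tpt_mul, ← hf, ← hf, ← hf, tpt_mul]
    group
  obtain ⟨w⟩ := ‹Nonempty S›
  have hN : AddGroup.FG D'.M := Module.Finite.iff_addGroup_fg.mp inferInstance
  obtain ⟨U, φ, hwU, hU⟩ := exists_ds_hom_loc hN f w
  have hall : ∀ x : S, x ∈ U := fun x => Subsingleton.elim w x ▸ hwU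
  refine ⟨φ, fun X t => ?_⟩
  rw [hf, hU X (fun x => hall _) t]

end Groth.Agent.RootDat34
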